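import Cfsg.Agent.H551.D4.Plane

/-!
# S4311, the row `PΩ₈⁺(q)`: box B (helper551)

`boxB1`: two decompositions are conjugate in `Ω`.  `boxB2`: the stabiliser of a decomposition is solvable.
-/

set_option autoImplicit false
set_option linter.unusedSectionVars false
set_option linter.style.haveILetI false

namespace Cfsg.Agent.H551.D4

open Module QuadraticMap Cfsg.Agent.H167.OP Cfsg.Agent.H170.HL Cfsg.Agent.H170.HL.OmRow Cfsg.Agent.H556.Om
open Cfsg Subgroup Cfsg.Agent.H561.D4
open Cfsg.Agent.ClassicalGeometry.Reflection Cfsg.Agent.ClassicalGeometry.CartanDieudonne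
open Cfsg.Agent.ClassicalGeometry.GenReflections
open scoped commutatorElement

variable {F : Type} [Field F] {ι : Type} [Fintype ι] [DecidableEq ι] {Q : QuadraticForm F (ι → F)}

/-! ### Conjugacy -/

/-- an isometry carrying one decomposition to the other -/
theorem exists_isom [Finite F] (h : Q8 Q) {U U' : Fin 4 → Submodule F (ι → F)} (hU : Dec Q U) (hU' : Dec Q U') :
    ∃ g : Cfsg.isometryGroup F (⇑Q), ∀ i, (U i).map (rep (inc' (⇑Q)) g) = U' i := by
  obtain ⟨b, hb⟩ := exists_basis h hU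
  obtain ⟨b', hb'⟩ := exists_basis h hU'
  let z : (ι → F) ≃ₗ[F] (ι → F) := b.equiv b' (Equiv.refl _)
  have hz : ∀ s, z (b s) = b' s := fun s => by simp [z]
  have hB : ∀ u v, polarBilin Q (z u) (z v) = polarBilin Q u v := by
    have h1 : (polarBilin Q).compl₁₂ (z : (ι → F) →ₗ[F] (ι → F)) (z : (ι → F) →ₗ[F] (ι → F)) =
        polarBilin Q := by
      apply b.ext
      intro s
      apply b.ext
      intro t
      rw [LinearMap.compl₁₂_apply, LinearEquiv.coe_coe, hz, hz, hb.gram, hb'.gram]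
    intro u v
    exact LinearMap.congr_fun (LinearMap.congr_fun h1 u) v
  obtain ⟨A, hA⟩ := exists_of_iso (⇑Q) (z : (ι → F) →ₗ[F] (ι → F)) (z.symm : (ι → F) →ₗ[F] (ι → F))
    (LinearMap.ext fun v => z.apply_symm_apply v) (LinearMap.ext fun v => z.symm_apply_apply v)
    (Q_eq_of h.two (z := (z : (ι → F) →ₗ[F] (ι → F))) hB)
  refine ⟨A, fun i => ?_⟩
  rw [hA, hb.spn, hb'.spn, Submodule.map_span, Set.image_pair, LinearEquiv.coe_coe, hz, hz]

/-- products of two reflections in vectors of the same norm belong to the commutator subgroup -/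
theorem refl_mul_mem (h2 : (2 : F) ≠ 0) {u v : ι → F} (hu : Q u ≠ 0) (hv : Q v ≠ 0) (huv : Q u = Q v) :
    reflIso Q u hu * reflIso Q v hv ∈ commutator (Cfsg.isometryGroup F (⇑Q)) := by
  obtain ⟨w, hw, h3⟩ := Cfsg.Agent.ClassicalGeometry.SpinorSign.exists_conj_reflIso h2 Q hu hv huv
  have h4 : reflIso Q u hu * reflIso Q v hv = ⁅reflIso Q u hu, reflIso Q w hw⁆ := by
    rw [h3, commutatorElement_def, reflIso_inv, reflIso_inv]
    simp only [mul_assoc]
  rw [h4]
  exact Subgroup.commutator_mem_commutator (Subgroup.mem_top _) (Subgroup.mem_top _)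

theorem refl_stab {U : Fin 4 → Submodule F (ι → F)} (hU : Dec Q U) {w : ι → F} (hw : w ∈ U 0) (hQw : Q w ≠ 0)
    (i : Fin 4) : (U i).map (rep (inc' (⇑Q)) (reflIso Q w hQw)) = U i := by
  have hle : ∀ x ∈ U i, rep (inc' (⇑Q)) (reflIso Q w hQw) x ∈ U i := by
    intro x hx
    have h1 : rep (inc' (⇑Q)) (reflIso Q w hQw) x = x - ((Q w)⁻¹ * polar (⇑Q) w x) • w :=
      act_reflIso Q w hQw x
    rw [h1]
    by_cases hi : i = 0
    · subst hi
      exact Submodule.sub_mem _ hx (Submodule.smul_mem _ _ hw)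
    · have h2 := hU.orth 0 i (Ne.symm hi) w hw x hx
      rw [polarBilin_apply_apply] at h2
      rw [h2, mul_zero, zero_smul, sub_zero]
      exact hx
  apply le_antisymm
  · rintro _ ⟨x, hx, rfl⟩
    exact hle x hx
  · intro x hx
    refine ⟨_, hle x hx, ?_⟩
    have h3 : rep (inc' (⇑Q)) (reflIso Q w hQw * reflIso Q w hQw) x = x := by
      rw [reflIso_mul_self, map_one]; rfl
    rw [map_mul] at h3
    exact h3

/-- every isometry is congruent modulo `Ω` to one fixing the planes -/
theorem exists_stab [Finite F] (h : Q8 Q) {U : Fin 4 → Submodule F (ι → F)} (hU : Dec Q U)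
    (g : Cfsg.isometryGroup F (⇑Q)) : ∃ r : Cfsg.isometryGroup F (⇑Q),
      (∀ i, (U i).map (rep (inc' (⇑Q)) r) = U i) ∧ r * g ∈ commutator (Cfsg.isometryGroup F (⇑Q)) := by
  refine isometry_induction h.two Q h.gq.nd (fun g => ∃ r : Cfsg.isometryGroup F (⇑Q),
      (∀ i, (U i).map (rep (inc' (⇑Q)) r) = U i) ∧ r * g ∈ commutator (Cfsg.isometryGroup F (⇑Q))) ?_ ?_ g
  · refine ⟨1, fun i => ?_, ?_⟩
    · rw [map_one]; exact Submodule.map_id _
    · rw [one_mul]; exact Subgroup.one_mem _
  · rintro v hv g ⟨r, hr, hrg⟩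
    -- a vector of `U 0` of the same norm
    obtain ⟨v₀, w₀, hv₀, hw₀, h1, h2, h3⟩ := exists_one h hU 0
    obtain ⟨a, b, hab⟩ := exists_norm h.two h.three (Q v)
    have hm : a • v₀ + b • w₀ ∈ U 0 :=
      Submodule.add_mem _ (Submodule.smul_mem _ _ hv₀) (Submodule.smul_mem _ _ hw₀)
    have hQw : Q (a • v₀ + b • w₀) = Q v := by
      rw [polarBilin_apply_apply] at h3
      rw [QuadraticMap.map_add (⇑Q), QuadraticMap.map_smul, QuadraticMap.map_smul, QuadraticMap.polar_smul_left,
        QuadraticMap.polar_smul_right, h1, h2, h3]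
      simp only [smul_eq_mul]
      linear_combination hab
    have hne : Q (a • v₀ + b • w₀) ≠ 0 := by rw [hQw]; exact hv
    refine ⟨r * reflIso Q _ hne, fun i => ?_, ?_⟩
    · rw [map_mul, Module.End.mul_eq_comp, Submodule.map_comp, refl_stab hU hm hne, hr]
    · have h4 := refl_mul_mem h.two hne hv hQw
      have h5 : r * reflIso Q _ hne * (reflIso Q v hv * g) =
          (r * g) * (g⁻¹ * (reflIso Q _ hne * reflIso Q v hv) * g⁻¹⁻¹) := by group
      rw [h5]
      exact Subgroup.mul_mem _ hrg (Subgroup.Normal.conj_mem inferInstance _ h4 g⁻¹)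

/-- **BOX B1** -/
theorem boxB1 [Finite F] (h : Q8 Q) : BoxB1 Q := by
  intro U U' hU hU'
  obtain ⟨g, hg⟩ := exists_isom h hU hU'
  obtain ⟨r, hr, hrg⟩ := exists_stab h hU' g
  refine ⟨⟨r * g, hrg⟩, fun i => ?_⟩
  have h1 : rep (inc (⇑Q)) (⟨r * g, hrg⟩ : Cfsg.Omega F (⇑Q)) = rep (inc' (⇑Q)) (r * g) := rfl
  rw [h1, map_mul, Module.End.mul_eq_comp, Submodule.map_comp, hg, hr]

/-! ### Solvability -/

/-- the rotation by a third of a turn of all the planes -/
noncomputable def rot (b : Basis (Fin 4 × Fin 2) F (ι → F)) : Module.End F (ι → F) :=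
  b.constr F (fun s => if s.2 = 0 then b (s.1, 1) else - b (s.1, 0) - b (s.1, 1))

theorem rot_zero (b : Basis (Fin 4 × Fin 2) F (ι → F)) (i : Fin 4) : rot b (b (i, 0)) = b (i, 1) := by
  unfold rot
  rw [Basis.constr_basis]
  exact if_pos rfl

theorem rot_one (b : Basis (Fin 4 × Fin 2) F (ι → F)) (i : Fin 4) :
    rot b (b (i, 1)) = - b (i, 0) - b (i, 1) := by
  unfold rot
  rw [Basis.constr_basis]
  exact if_neg (by simp)

/-- an isometry of the planes commutes with the rotation or inverts it, on each plane -/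
theorem dich (h2 : (2 : F) ≠ 0) (h3 : (3 : F) ≠ 0) {U : Fin 4 → Submodule F (ι → F)}
    {b : Basis (Fin 4 × Fin 2) F (ι → F)} (hb : Adapted Q U b) (f : Module.End F (ι → F))
    (hB : ∀ u v, polarBilin Q (f u) (f v) = polarBilin Q u v) (i : Fin 4) (hU : ∀ u ∈ U i, f u ∈ U i) :
    (∀ k, f (rot b (b (i, k))) = rot b (f (b (i, k)))) ∨
      (∀ k, f (rot b (b (i, k))) = rot b (rot b (f (b (i, k))))) := by
  have m0 := hU _ (hb.mem i 0)
  have m1 := hU _ (hb.mem i 1)
  rw [hb.spn, Submodule.mem_span_pair] at m0 m1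
  obtain ⟨a, c, hac⟩ := m0
  obtain ⟨e, d, hed⟩ := m1
  have g00 : polarBilin Q (b (i, 0)) (b (i, 0)) = 2 := by rw [hb.gram]; simp [gram]
  have g01 : polarBilin Q (b (i, 0)) (b (i, 1)) = -1 := by rw [hb.gram]; simp [gram]
  have g10 : polarBilin Q (b (i, 1)) (b (i, 0)) = -1 := by rw [hb.gram]; simp [gram]
  have g11 : polarBilin Q (b (i, 1)) (b (i, 1)) = 2 := by rw [hb.gram]; simp [gram]
  have E1 : a ^ 2 - a * c + c ^ 2 = 1 := by
    have := hB (b (i, 0)) (b (i, 0))
    rw [← hac] at this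
    simp only [map_add, map_smul, LinearMap.add_apply, LinearMap.smul_apply, g00, g01, g10, g11,
      smul_eq_mul] at this
    apply mul_left_cancel₀ h2
    linear_combination this
  have E2 : e ^ 2 - e * d + d ^ 2 = 1 := by
    have := hB (b (i, 1)) (b (i, 1))
    rw [← hed] at this
    simp only [map_add, map_smul, LinearMap.add_apply, LinearMap.smul_apply, g00, g01, g10, g11,
      smul_eq_mul] at this
    apply mul_left_cancel₀ h2
    linear_combination this
  have E3 : (2 * a - c) * e + (2 * c - a) * d = -1 := by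
    have := hB (b (i, 0)) (b (i, 1))
    rw [← hed, ← hac] at this
    simp only [map_add, map_smul, LinearMap.add_apply, LinearMap.smul_apply, g00, g01, g10, g11,
      smul_eq_mul] at this
    linear_combination this
  have ED : (a * d - c * e - 1) * (a * d - c * e + 1) = 0 := by
    apply mul_left_cancel₀ h3
    linear_combination 4 * (e ^ 2 - e * d + d ^ 2) * E1 + 4 * E2 -
      ((2 * a - c) * e + (2 * c - a) * d - 1) * E3
  rcases mul_eq_zero.1 ED with hD | hD
  · left
    have h4 : e = -c := by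
      have : (2 : F) * (e + c) = 0 := by
        linear_combination (-2 * e) * E1 + a * E3 - (2 * c - a) * hD
      exact eq_neg_of_add_eq_zero_left ((mul_eq_zero.1 this).resolve_left h2)
    have h5 : d = a - c := by
      have : (2 : F) * (d - (a - c)) = 0 := by
        linear_combination (-2 * d) * E1 + c * E3 + (2 * a - c) * hD
      exact sub_eq_zero.1 ((mul_eq_zero.1 this).resolve_left h2)
    intro k
    fin_cases k
    · show f (rot b (b (i, 0))) = rot b (f (b (i, 0)))
      rw [rot_zero, ← hac, ← hed, map_add, map_smul, map_smul, rot_zero, rot_one, h4, h5]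
      module
    · show f (rot b (b (i, 1))) = rot b (f (b (i, 1)))
      rw [rot_one, map_sub, map_neg, ← hac, ← hed, map_add, map_smul, map_smul, rot_zero, rot_one, h4, h5]
      module
  · right
    have h4 : e = c - a := by
      have : (2 : F) * (e - (c - a)) = 0 := by
        linear_combination (-2 * e) * E1 + a * E3 - (2 * c - a) * hD
      exact sub_eq_zero.1 ((mul_eq_zero.1 this).resolve_left h2)
    have h5 : d = - a := by
      have : (2 : F) * (d + a) = 0 := by
        linear_combination (-2 * d) * E1 + c * E3 + (2 * a - c) * hD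
      exact eq_neg_of_add_eq_zero_left ((mul_eq_zero.1 this).resolve_left h2)
    intro k
    fin_cases k
    · show f (rot b (b (i, 0))) = rot b (rot b (f (b (i, 0))))
      rw [rot_zero, ← hac, ← hed, map_add, map_smul, map_smul, rot_zero, rot_one, map_add, map_smul, map_smul,
        map_sub, map_neg, rot_zero, rot_one, h4, h5]
      module
    · show f (rot b (b (i, 1))) = rot b (rot b (f (b (i, 1))))
      rw [rot_one, map_sub, map_neg, ← hac, ← hed, map_add, map_smul, map_smul, rot_zero, rot_one, map_add,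
        map_smul, map_smul, map_sub, map_neg, rot_zero, rot_one, h4, h5]
      module

theorem rot_mem {U : Fin 4 → Submodule F (ι → F)} {b : Basis (Fin 4 × Fin 2) F (ι → F)} (hb : Adapted Q U b)
    (i : Fin 4) {u : ι → F} (hu : u ∈ U i) : rot b u ∈ U i := by
  have hu' := hu
  rw [hb.spn, Submodule.mem_span_pair] at hu'
  obtain ⟨s, t, rfl⟩ := hu'
  rw [map_add, map_smul, map_smul, rot_zero, rot_one]
  exact Submodule.add_mem _ (Submodule.smul_mem _ _ (hb.mem i 1)) (Submodule.smul_mem _ _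
    (Submodule.sub_mem _ (Submodule.neg_mem _ (hb.mem i 0)) (hb.mem i 1)))

/-- on a plane, agreement on the basis is enough -/
theorem ext_plane {U : Fin 4 → Submodule F (ι → F)} {b : Basis (Fin 4 × Fin 2) F (ι → F)} (hb : Adapted Q U b)
    {i : Fin 4} {f g : Module.End F (ι → F)} (hfg : ∀ k, f (b (i, k)) = g (b (i, k))) {u : ι → F} (hu : u ∈ U i) :
    f u = g u := by
  rw [hb.spn, Submodule.mem_span_pair] at hu
  obtain ⟨s, t, rfl⟩ := hu
  rw [map_add, map_add, map_smul, map_smul, map_smul, map_smul, hfg, hfg]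

theorem rot_cube (b : Basis (Fin 4 × Fin 2) F (ι → F)) : rot b * rot b * rot b = 1 := by
  apply b.ext
  rintro ⟨i, k⟩
  fin_cases k
  · show rot b (rot b (rot b (b (i, 0)))) = b (i, 0)
    rw [rot_zero, rot_one, map_sub, map_neg, rot_zero, rot_one]
    abel
  · show rot b (rot b (rot b (b (i, 1)))) = b (i, 1)
    rw [rot_one, map_sub, map_neg, rot_zero, rot_one, map_sub, map_neg, map_sub, map_neg, rot_zero, rot_one]
    abel

/-- the squares commute with the rotation -/
theorem sq_comm (h2 : (2 : F) ≠ 0) (h3 : (3 : F) ≠ 0) {U : Fin 4 → Submodule F (ι → F)}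
    {b : Basis (Fin 4 × Fin 2) F (ι → F)} (hb : Adapted Q U b) (f : Module.End F (ι → F))
    (hB : ∀ u v, polarBilin Q (f u) (f v) = polarBilin Q u v) (hU : ∀ i, ∀ u ∈ U i, f u ∈ U i) :
    (f * f) * rot b = rot b * (f * f) := by
  apply b.ext
  rintro ⟨i, k⟩
  show f (f (rot b (b (i, k)))) = rot b (f (f (b (i, k))))
  rcases dich h2 h3 hb f hB i (hU i) with h | h
  · have h' : ∀ u ∈ U i, f (rot b u) = rot b (f u) := fun u hu =>
      ext_plane hb (f := f * rot b) (g := rot b * f) h hu
    rw [h' _ (hb.mem i k), h' _ (hU i _ (hb.mem i k))]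
  · have h' : ∀ u ∈ U i, f (rot b u) = rot b (rot b (f u)) := fun u hu =>
      ext_plane hb (f := f * rot b) (g := rot b * (rot b * f)) h hu
    have hc : ∀ u, rot b (rot b (rot b u)) = u := fun u => LinearMap.congr_fun (rot_cube b) u
    have hm := hU i _ (hb.mem i k)
    rw [h' _ (hb.mem i k), h' _ (rot_mem hb i hm), h' _ hm, hc]

/-- endomorphisms commuting with the rotation commute -/
theorem comm_of {U : Fin 4 → Submodule F (ι → F)}
    {b : Basis (Fin 4 × Fin 2) F (ι → F)} (hb : Adapted Q U b) {f g : Module.End F (ι → F)}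
    (hf : f * rot b = rot b * f) (hg : g * rot b = rot b * g) (hU : ∀ i, ∀ u ∈ U i, f u ∈ U i)
    (hU' : ∀ i, ∀ u ∈ U i, g u ∈ U i) : f * g = g * f := by
  have hf' : ∀ u, f (rot b u) = rot b (f u) := fun u => LinearMap.congr_fun hf u
  have hg' : ∀ u, g (rot b u) = rot b (g u) := fun u => LinearMap.congr_fun hg u
  have key : ∀ i, f (g (b (i, 0))) = g (f (b (i, 0))) := by
    intro i
    have m0 := hU i _ (hb.mem i 0)
    have m1 := hU' i _ (hb.mem i 0)
    rw [hb.spn, Submodule.mem_span_pair] at m0 m1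
    obtain ⟨s, t, h1⟩ := m0
    obtain ⟨s', t', h2⟩ := m1
    have hf1 : f (b (i, 1)) = rot b (f (b (i, 0))) := by rw [← rot_zero, hf']
    have hg1 : g (b (i, 1)) = rot b (g (b (i, 0))) := by rw [← rot_zero, hg']
    rw [← h1, ← h2, map_add, map_add, map_smul, map_smul, map_smul, map_smul, hf1, hg1, ← h1, ← h2, map_add,
      map_add, map_smul, map_smul, map_smul, map_smul, rot_zero, rot_one]
    module
  apply b.ext
  rintro ⟨i, k⟩
  fin_cases k
  · exact key i
  · show f (g (b (i, 1))) = g (f (b (i, 1)))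
    rw [← rot_zero, hg', hf', key, ← hg', ← hf']

theorem solvable_of (h2 : (2 : F) ≠ 0) (h3 : (3 : F) ≠ 0) {U : Fin 4 → Submodule F (ι → F)}
    {b : Basis (Fin 4 × Fin 2) F (ι → F)} (hb : Adapted Q U b) {K : Type*} [Group K]
    (ρ : K →* Module.End F (ι → F)) (hinj : Function.Injective ρ)
    (hB : ∀ k u v, polarBilin Q (ρ k u) (ρ k v) = polarBilin Q u v) (hU : ∀ k i, ∀ u ∈ U i, ρ k u ∈ U i) :
    Group.IsSolvable K := by
  let N : Subgroup K :=
    { carrier := {k | ρ k * rot b = rot b * ρ k}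
      one_mem' := by
        show ρ 1 * rot b = rot b * ρ 1
        rw [map_one, one_mul, mul_one]
      mul_mem' := by
        intro k l (hk : ρ k * rot b = rot b * ρ k) (hl : ρ l * rot b = rot b * ρ l)
        show ρ (k * l) * rot b = rot b * ρ (k * l)
        rw [map_mul, mul_assoc, hl, ← mul_assoc, hk, mul_assoc]
      inv_mem' := by
        intro k (hk : ρ k * rot b = rot b * ρ k)
        show ρ k⁻¹ * rot b = rot b * ρ k⁻¹
        have e1 : ρ k⁻¹ * ρ k = 1 := by rw [← map_mul, inv_mul_cancel, map_one]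
        have e2 : ρ k * ρ k⁻¹ = 1 := by rw [← map_mul, mul_inv_cancel, map_one]
        calc ρ k⁻¹ * rot b = ρ k⁻¹ * rot b * (ρ k * ρ k⁻¹) := by rw [e2, mul_one]
          _ = ρ k⁻¹ * (rot b * ρ k) * ρ k⁻¹ := by simp only [mul_assoc]
          _ = ρ k⁻¹ * (ρ k * rot b) * ρ k⁻¹ := by rw [hk]
          _ = (ρ k⁻¹ * ρ k) * rot b * ρ k⁻¹ := by simp only [mul_assoc]
          _ = rot b * ρ k⁻¹ := by rw [e1, one_mul] }
  have hsq : ∀ k : K, k * k ∈ N := by
    intro k
    show ρ (k * k) * rot b = rot b * ρ (k * k)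
    rw [map_mul]
    exact sq_comm h2 h3 hb (ρ k) (hB k) (hU k)
  have hle : commutator K ≤ N := by
    rw [commutator_def, Subgroup.commutator_le]
    intro g _ h _
    have e : ⁅g, h⁆ = (g * h) * (g * h) * ((h⁻¹ * g⁻¹ * h) * (h⁻¹ * g⁻¹ * h)) * (h⁻¹ * h⁻¹) := by
      rw [commutatorElement_def]; group
    rw [e]
    exact N.mul_mem (N.mul_mem (hsq _) (hsq _)) (hsq _)
  rw [Group.isSolvable_iff_subgroup_quotient (commutator K)]
  constructor
  · refine Group.isSolvable_of_comm fun x y => ?_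
    apply Subtype.ext
    apply hinj
    show ρ (x.1 * y.1) = ρ (y.1 * x.1)
    rw [map_mul, map_mul]
    exact comm_of hb (hle x.2) (hle y.2) (hU _) (hU _)
  · haveI : IsMulCommutative (K ⧸ commutator K) :=
      (Subgroup.Normal.quotient_commutative_iff_commutator_le (N := commutator K)).2 le_rfl
    exact Group.isSolvable_of_comm fun a b => mul_comm' a b

/-- the action on the four planes -/
@[instance_reducible]
noncomputable def actU (U : Fin 4 → Submodule F (ι → F)) : MulAction (StD Q U) (Set.range U) where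
  smul g W := ⟨W.1.map (rep (inc (⇑Q)) g.1), by
    obtain ⟨W, i, rfl⟩ := W
    obtain ⟨j, hj⟩ := g.2.1 i
    exact ⟨j, hj.symm⟩⟩
  one_smul W := Subtype.ext (by
    show W.1.map (rep (inc (⇑Q)) 1) = W.1
    rw [map_one]
    exact Submodule.map_id _)
  mul_smul g h W := Subtype.ext (by
    show W.1.map (rep (inc (⇑Q)) (g.1 * h.1)) = (W.1.map (rep (inc (⇑Q)) h.1)).map (rep (inc (⇑Q)) g.1)
    rw [map_mul, Module.End.mul_eq_comp, Submodule.map_comp])

/-- **BOX B2** -/
theorem boxB2 [Finite F] (h : Q8 Q) : BoxB2 Q := by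
  intro U hU
  obtain ⟨b, hb⟩ := exists_basis h hU
  letI := actU (Q := Q) U
  let φ : StD Q U →* Equiv.Perm (Set.range U) := MulAction.toPermHom (StD Q U) (Set.range U)
  haveI h1 : Group.IsSolvable (Equiv.Perm (Set.range U)) :=
    Cfsg.Agent.H76.PermFour.solvable_perm_of_card_le ((Finite.card_range_le U).trans (by simp))
  haveI h2 : Group.IsSolvable φ.ker := by
    refine solvable_of h.two h.three hb
      ((rep (inc (⇑Q))).comp ((StD Q U).subtype.comp φ.ker.subtype)) ?_ ?_ ?_
    · intro x y hxy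
      apply Subtype.ext
      apply Subtype.ext
      exact rep_injective inc_injective hxy
    · intro k u v
      exact B_rep k.1.1 u v
    · intro k i u hu
      have h3 : φ k.1 = 1 := k.2
      have h4 := congrArg (fun σ : Equiv.Perm (Set.range U) => (σ ⟨U i, i, rfl⟩).1) h3
      have h5 : (U i).map (rep (inc (⇑Q)) k.1.1) = U i := h4
      rw [← h5]
      exact ⟨u, hu, rfl⟩
  exact Group.isSolvable_of_ker_le_range φ.ker.subtype φ (by rw [Subgroup.range_subtype])

end Cfsg.Agent.H551.D4
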