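import Cfsg.Agent.H561.D4.Base
import Cfsg.Agent.H76.PermFour
import Cfsg.Agent.ClassicalGeometry.CartanDieudonne
import Cfsg.Agent.ClassicalGeometry.GenReflections
import Cfsg.Agent.ClassicalGeometry.SpinorSign

/-!
# S4311, the row `PΩ₈⁺(q)`: box B, the planes of a decomposition (helper551)

`exists_basis`: for `Dec Q U` there is a basis `b : Fin 4 × Fin 2 → V` with `U i = ⟨b (i,0), b (i,1)⟩` and a fixed
Gram matrix: `Q (b (i,k)) = 1`, `B(b (i,0), b (i,1)) = -1`, and zero between different planes.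
-/

set_option autoImplicit false
set_option linter.unusedSectionVars false

namespace Cfsg.Agent.H551.D4

open Module QuadraticMap Cfsg.Agent.H167.OP Cfsg.Agent.H170.HL Cfsg.Agent.H170.HL.OmRow Cfsg.Agent.H556.Om
open Cfsg Subgroup Cfsg.Agent.H561.D4

variable {F : Type} [Field F] {ι : Type} [Fintype ι] [DecidableEq ι] {Q : QuadraticForm F (ι → F)}

/-- the norm form of the cubic roots of unity is universal over a finite field -/
theorem exists_norm [Finite F] (h2 : (2 : F) ≠ 0) (h3 : (3 : F) ≠ 0) (c : F) :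
    ∃ a b : F, a ^ 2 - a * b + b ^ 2 = c := by
  have := Fintype.ofFinite F
  have hodd : Fintype.card F % 2 = 1 := FiniteField.odd_card_of_char_ne_two (by
    intro h
    have : CharP F 2 := by rw [← h]; exact ringChar.charP F
    exact h2 (by exact_mod_cast CharP.cast_eq_zero F 2))
  obtain ⟨s, t, hst⟩ := FiniteField.exists_root_sum_quadratic
    (f := (Polynomial.X ^ 2 - Polynomial.C c : Polynomial F)) (g := Polynomial.C (3 : F) * Polynomial.X ^ 2)
    (Polynomial.degree_X_pow_sub_C (by norm_num) c) (Polynomial.degree_C_mul_X_pow 2 h3) hodd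
  refine ⟨s + t, 2 * t, ?_⟩
  simp only [Polynomial.eval_sub, Polynomial.eval_pow, Polynomial.eval_X, Polynomial.eval_C,
    Polynomial.eval_mul] at hst
  linear_combination hst

theorem Q_rep (x : Cfsg.Omega F (⇑Q)) (v : ι → F) : Q (rep (inc (⇑Q)) x v) = Q v :=
  iso_apply (Q := ⇑Q) x.1 v

theorem B_rep (x : Cfsg.Omega F (⇑Q)) (u v : ι → F) :
    polarBilin Q (rep (inc (⇑Q)) x u) (rep (inc (⇑Q)) x v) = polarBilin Q u v :=
  polar_apply Q x.1 u v

theorem sum_zero {x : Cfsg.Omega F (⇑Q)} (hx : x ^ 3 = 1) {u : ι → F}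
    (hu : u ∈ LinearMap.range (rep (inc (⇑Q)) x - 1)) :
    rep (inc (⇑Q)) x (rep (inc (⇑Q)) x u) = - u - rep (inc (⇑Q)) x u := by
  obtain ⟨t, rfl⟩ := hu
  have h : rep (inc (⇑Q)) x (rep (inc (⇑Q)) x (rep (inc (⇑Q)) x t)) = t := by
    have h1 : rep (inc (⇑Q)) (x ^ 3) t = t := by rw [hx, map_one]; rfl
    rw [pow_succ, pow_succ, pow_one, map_mul, map_mul] at h1
    exact h1
  simp only [LinearMap.sub_apply, Module.End.one_apply, map_sub]
  rw [h]
  abel

theorem B_eq {x : Cfsg.Omega F (⇑Q)} (hx : x ^ 3 = 1) {u : ι → F}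
    (hu : u ∈ LinearMap.range (rep (inc (⇑Q)) x - 1)) : polarBilin Q u (rep (inc (⇑Q)) x u) = - Q u := by
  have h1 := sum_zero hx hu
  have h2 : Q (rep (inc (⇑Q)) x (rep (inc (⇑Q)) x u)) = Q u := by rw [Q_rep, Q_rep]
  rw [h1] at h2
  have h3 : - u - rep (inc (⇑Q)) x u = - (u + rep (inc (⇑Q)) x u) := by abel
  rw [h3, QuadraticMap.map_neg, QuadraticMap.map_add (⇑Q), Q_rep] at h2
  rw [polarBilin_apply_apply]
  linear_combination h2

theorem mem_rep {x : Cfsg.Omega F (⇑Q)} {u : ι → F}
    (hu : u ∈ LinearMap.range (rep (inc (⇑Q)) x - 1)) :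
    rep (inc (⇑Q)) x u ∈ LinearMap.range (rep (inc (⇑Q)) x - 1) := by
  obtain ⟨t, rfl⟩ := hu
  exact ⟨rep (inc (⇑Q)) x t, by simp⟩

/-- the planes are not totally singular -/
theorem exists_ne [Finite F] (h : Q8 Q) {U : Fin 4 → Submodule F (ι → F)} (hU : Dec Q U) (i : Fin 4) :
    ∃ u ∈ U i, Q u ≠ 0 := by
  by_contra hc
  push Not at hc
  have h1 : ∀ u ∈ U i, u = 0 := by
    intro u hu
    apply h.gq.nd.1 u
    intro y
    have hy : y ∈ ⨆ j, U j := by rw [hU.top]; trivial
    refine Submodule.iSup_induction U (motive := fun y => polarBilin Q u y = 0) hy ?_ ?_ ?_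
    · intro j v hv
      by_cases hij : i = j
      · subst hij
        rw [polarBilin_apply_apply, polar, hc _ (Submodule.add_mem _ hu hv), hc _ hu, hc _ hv]
        simp
      · exact hU.orth i j hij u hu v hv
    · exact map_zero _
    · intro a b ha hb
      rw [map_add, ha, hb, add_zero]
  have h2 : U i = ⊥ := (Submodule.eq_bot_iff _).2 h1
  have h3 := hU.rank i
  rw [h2, finrank_bot] at h3
  omega

/-- a vector of norm one -/
theorem exists_one [Finite F] (h : Q8 Q) {U : Fin 4 → Submodule F (ι → F)} (hU : Dec Q U) (i : Fin 4) :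
    ∃ v w : ι → F, v ∈ U i ∧ w ∈ U i ∧ Q v = 1 ∧ Q w = 1 ∧ polarBilin Q v w = -1 := by
  obtain ⟨u, hu, hne⟩ := exists_ne h hU i
  obtain ⟨x, hx, -, hr⟩ := hU.typ i
  rw [← hr] at hu ⊢
  obtain ⟨a, b, hab⟩ := exists_norm h.two h.three (Q u)⁻¹
  have hm : a • u + b • rep (inc (⇑Q)) x u ∈ LinearMap.range (rep (inc (⇑Q)) x - 1) :=
    Submodule.add_mem _ (Submodule.smul_mem _ _ hu) (Submodule.smul_mem _ _ (mem_rep hu))
  have hQ1 : Q (a • u + b • rep (inc (⇑Q)) x u) = 1 := by
    rw [QuadraticMap.map_add (⇑Q), QuadraticMap.map_smul, QuadraticMap.map_smul, QuadraticMap.polar_smul_left,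
      QuadraticMap.polar_smul_right, Q_rep, ← polarBilin_apply_apply, B_eq hx hu]
    simp only [smul_eq_mul]
    have h1 : (a ^ 2 - a * b + b ^ 2) * Q u = 1 := by rw [hab, inv_mul_cancel₀ hne]
    linear_combination h1
  exact ⟨_, rep (inc (⇑Q)) x (a • u + b • rep (inc (⇑Q)) x u), hm, mem_rep hm, hQ1, by rw [Q_rep, hQ1],
    by rw [B_eq hx hm, hQ1]⟩

/-- the standard Gram matrix of a decomposition -/
def gram (s t : Fin 4 × Fin 2) : F := if s.1 = t.1 then (if s.2 = t.2 then 2 else -1) else 0

/-- a basis adapted to the decomposition -/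
structure Adapted (Q : QuadraticForm F (ι → F)) (U : Fin 4 → Submodule F (ι → F))
    (b : Basis (Fin 4 × Fin 2) F (ι → F)) : Prop where
  mem : ∀ i k, b (i, k) ∈ U i
  spn : ∀ i, U i = Submodule.span F {b (i, 0), b (i, 1)}
  gram : ∀ s t, polarBilin Q (b s) (b t) = gram s t

theorem exists_basis [Finite F] (h : Q8 Q) {U : Fin 4 → Submodule F (ι → F)} (hU : Dec Q U) :
    ∃ b : Basis (Fin 4 × Fin 2) F (ι → F), Adapted Q U b := by
  choose v w hv hw hQv hQw hB using fun i => exists_one h hU i
  let e : Fin 4 × Fin 2 → ι → F := fun s => if s.2 = 0 then v s.1 else w s.1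
  have he0 : ∀ i, e (i, 0) = v i := fun i => if_pos rfl
  have he1 : ∀ i, e (i, 1) = w i := fun i => if_neg (by simp)
  have hmem : ∀ i k, e (i, k) ∈ U i := by
    intro i k
    fin_cases k
    · exact hv i
    · exact hw i
  have hgram : ∀ s t, polarBilin Q (e s) (e t) = D4.gram s t := by
    rintro ⟨i, k⟩ ⟨j, l⟩
    unfold D4.gram
    by_cases hij : i = j
    · subst hij
      rw [if_pos rfl]
      fin_cases k <;> fin_cases l
      · show polarBilin Q (v i) (v i) = _
        rw [Cfsg.Agent.H556.Om.polar_self, hQv]; simp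
      · show polarBilin Q (v i) (w i) = _
        rw [hB]; simp
      · show polarBilin Q (w i) (v i) = _
        rw [polar_symm, hB]; simp
      · show polarBilin Q (w i) (w i) = _
        rw [Cfsg.Agent.H556.Om.polar_self, hQw]; simp
    · rw [if_neg hij]
      exact hU.orth i j hij _ (hmem i k) _ (hmem j l)
  have hli : LinearIndependent F e := by
    rw [Fintype.linearIndependent_iff]
    intro g hg
    have key : ∀ i, 2 * g (i, 0) - g (i, 1) = 0 ∧ 2 * g (i, 1) - g (i, 0) = 0 := by
      intro i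
      have h0 : polarBilin Q (∑ s, g s • e s) (e (i, 0)) = 0 := by rw [hg, map_zero]; rfl
      have h1 : polarBilin Q (∑ s, g s • e s) (e (i, 1)) = 0 := by rw [hg, map_zero]; rfl
      rw [map_sum, LinearMap.sum_apply] at h0 h1
      simp only [map_smul, LinearMap.smul_apply, hgram, D4.gram, smul_eq_mul, Fintype.sum_prod_type,
        Fin.sum_univ_two] at h0 h1
      rw [Finset.sum_eq_single i] at h0 h1
      · simp at h0 h1
        exact ⟨by linear_combination h0, by linear_combination h1⟩
      · intro j _ hj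
        simp [hj]
      · intro hj
        exact absurd (Finset.mem_univ i) hj
      · intro j _ hj
        simp [hj]
      · intro hj
        exact absurd (Finset.mem_univ i) hj
    rintro ⟨i, k⟩
    obtain ⟨h0, h1⟩ := key i
    fin_cases k
    · have : (3 : F) * g (i, 0) = 0 := by linear_combination 2 * h0 + h1
      exact (mul_eq_zero.1 this).resolve_left h.three
    · have : (3 : F) * g (i, 1) = 0 := by linear_combination h0 + 2 * h1
      exact (mul_eq_zero.1 this).resolve_left h.three
  have hcard : Fintype.card (Fin 4 × Fin 2) = finrank F (ι → F) := by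
    rw [Module.finrank_fintype_fun_eq_card, h.dim]; rfl
  let b : Basis (Fin 4 × Fin 2) F (ι → F) := basisOfLinearIndependentOfCardEqFinrank hli hcard
  have hb : ∀ s, b s = e s := fun s => by
    rw [coe_basisOfLinearIndependentOfCardEqFinrank]
  refine ⟨b, ?_, ?_, ?_⟩
  · intro i k
    rw [hb]; exact hmem i k
  · intro i
    rw [hb, hb]
    symm
    apply Submodule.eq_of_le_of_finrank_eq
    · rw [Submodule.span_le]
      rintro y (rfl | rfl)
      · exact hmem i 0
      · exact hmem i 1
    · rw [hU.rank i]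
      have h4 : LinearIndependent F ![e (i, 0), e (i, 1)] := by
        have := hli.comp (fun k : Fin 2 => (i, k)) (fun k l hkl => by simpa using hkl)
        convert this using 1
        funext k
        fin_cases k <;> rfl
      have h5 := finrank_span_eq_card h4
      rw [Matrix.range_cons, Matrix.range_cons, Matrix.range_empty, Set.union_empty] at h5
      have h6 : ({e (i, 0)} ∪ {e (i, 1)} : Set (ι → F)) = {e (i, 0), e (i, 1)} := rfl
      rw [h6] at h5
      rw [h5]; rfl
  · intro s t
    rw [hb, hb]; exact hgram s t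

end Cfsg.Agent.H551.D4
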